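import Groth.Agent.H12Eqv.Twist
import Groth.Agent.H25AbCube.Formula
import Groth.Agent.H19Chev.TorsorTrace
import Mathlib.AlgebraicGeometry.Sites.Fpqc

/-!
# Equivariant morphisms to the abelian variety of a faithful action
-/

set_option autoImplicit false
set_option linter.style.haveILetI false
set_option linter.unusedSectionVars false
set_option backward.isDefEq.respectTransparency false
set_option synthInstance.maxHeartbeats 100000
set_option maxHeartbeats 2000000
universe u

open CategoryTheory CategoryTheory.Limits MonoidalCategory CartesianMonoidalCategory MonObj GrpObj AlgebraicGeometry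
  TopologicalSpace
open Groth.Agent Groth.Agent.H25AbCube Groth.Agent.H25AbCube.Stab Groth.Agent.H19Chev

noncomputable section

namespace Groth.Agent.H12Eqv

variable {k : Type u} [Field k] [IsAlgClosed k]

/-- A finite surjective morphism to an integral scheme has points over every geometric generic point. -/
theorem exists_point_over {Z X : Over (Spec (CommRingCat.of k))} (π : Z ⟶ X) [IsFinite π.left]
    [Surjective π.left] (Ω : Type u) [Field Ω] [IsAlgClosed Ω] [Algebra k Ω] (y : sp k Ω ⟶ X) :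
    ∃ z : sp k Ω ⟶ Z, z ≫ π = y := by
  let q := pullback.snd π.left y.left
  haveI : IsFinite q := MorphismProperty.pullback_snd (P := @IsFinite) _ _ inferInstance
  haveI : Surjective q := MorphismProperty.pullback_snd (P := @Surjective) _ _ inferInstance
  haveI : CompactSpace ↥(pullback π.left y.left) := QuasiCompact.compactSpace_of_compactSpace q
  obtain ⟨w, hw⟩ := q.surjective (IsLocalRing.closedPoint Ω)
  haveI : Nonempty ↥(pullback π.left y.left) := ⟨w⟩
  obtain ⟨v, -, hv⟩ := isClosed_univ.exists_closed_singleton (X := ↥(pullback π.left y.left)) Set.univ_nonempty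
  let s := (pointEquivClosedPoint (f := q)).symm ⟨v, hv⟩
  have hs : s.1 ≫ q = 𝟙 _ := s.2
  refine ⟨Over.homMk (s.1 ≫ pullback.fst π.left y.left) ?_, Over.OverMorphism.ext ?_⟩
  · rw [Category.assoc, ← Over.w π, pullback.condition_assoc, reassoc_of% hs, Over.w y]
  · show (s.1 ≫ pullback.fst π.left y.left) ≫ π.left = y.left
    rw [Category.assoc, pullback.condition, reassoc_of% hs]

/-- An abelian variety acting faithfully on a smooth variety receives an equivariant morphism. -/
theorem exists_equivariant {A X : Over (Spec (CommRingCat.of k))} [GrpObj A] [IsProper A.hom] [Smooth A.hom]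
    [GeometricallyIntegral A.hom] [Smooth X.hom] [IsSeparated X.hom] [QuasiCompact X.hom] [IsIntegral X.left]
    (a : AlgGrp.Action A X)
    (hfaith : ∀ g : 𝟙_ (Over (Spec (CommRingCat.of k))) ⟶ A, lift (toUnit X ≫ g) (𝟙 X) ≫ a.act = 𝟙 X → g = η[A]) :
    ∃ (φ : X ⟶ A) (n : ℕ), 0 < n ∧
      ∀ (T : Over (Spec (CommRingCat.of k))) (g : T ⟶ A) (x : T ⟶ X), lift g x ≫ a.act ≫ φ = (x ≫ φ) * g ^ n := by
  haveI : IsCommMonObj A := isCommMonObj_of_av
  haveI : GeometricallyIntegral X.hom := geometricallyIntegral_of_isIntegral X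
  haveI : IsLocallyNoetherian X.left := LocallyOfFiniteType.isLocallyNoetherian X.hom
  haveI : JacobsonSpace X.left := LocallyOfFiniteType.jacobsonSpace X.hom
  obtain ⟨x₀, hx₀⟩ : ∃ p : X.left, IsClosed ({p} : Set X.left) := by
    haveI : CompactSpace X.left := QuasiCompact.compactSpace_of_compactSpace X.hom
    obtain ⟨v, -, hv⟩ := isClosed_univ.exists_closed_singleton (X := X.left) Set.univ_nonempty
    exact ⟨v, hv⟩
  obtain ⟨x, -⟩ := exists_pnt hx₀
  obtain ⟨M, hM, hample⟩ := exists_ample_orb a hfaith x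
  let m : PC X.left := pc M hM
  let l : PC A.left := ev m (orb a x)
  have hlL : pc _ hample.1 = l := pullP_pc _ M hM hample.1
  obtain ⟨n, hn, hkill⟩ := exists_kill (A := A) _ hample
  rw [hlL] at hkill
  let w : PC (A ⊗ (A ⊗ X)).left := tw a m l (snd A X) - pr l (fst A X)
  have hw : ev w (lift (1 : A ⊗ X ⟶ A) (𝟙 _)) = 0 := by
    rw [ev_sub', ev_tw, ev_pr, th_one_left, act_one, H25AbCube.ev_one]
    simp
  obtain ⟨Z, j, hj, hZ⟩ := exists_zero_locus w hw
  haveI := hj
  haveI : Mono j := Over.mono_of_mono_left j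
  have hfun : ∀ {T : Over (Spec (CommRingCat.of k))} (c : T ⟶ A) (y : T ⟶ X),
      (∃ z, z ≫ j = lift c y) ↔ Sol a m l y c := by
    intro T c y
    rw [hZ T (lift c y), ev_sub', tw_nat, pr_nat, lift_fst, lift_snd, sub_eq_zero]
    rfl
  let π : Z ⟶ X := j ≫ snd A X
  let cZ : Z ⟶ A := j ≫ fst A X
  have hsol : ∀ {T : Over (Spec (CommRingCat.of k))} (z : T ⟶ Z), Sol a m l (z ≫ π) (z ≫ cZ) := fun z =>
    (hfun _ _).1 ⟨z, by
      apply CartesianMonoidalCategory.hom_ext <;> simp [π, cZ]⟩
  have huniq : ∀ {T : Over (Spec (CommRingCat.of k))} (y : T ⟶ X) (c c' : T ⟶ A),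
      Sol a m l y c → Sol a m l y c' → c ^ n = c' ^ n := by
    intro T y c c' h h'
    have h1 := hkill T (c * c'⁻¹) (by rw [pr_div, ← h, ← h', sub_self])
    rwa [mul_pow, inv_pow, mul_inv_eq_one] at h1
  haveI : IsProper (snd A X).left := MorphismProperty.pullback_snd (P := @IsProper) _ _ inferInstance
  haveI : IsProper π.left := by rw [show π.left = j.left ≫ (snd A X).left from rfl]; infer_instance
  haveI : LocallyOfFiniteType Z.hom := by rw [← Over.w π]; infer_instance
  haveI : JacobsonSpace Z.left := LocallyOfFiniteType.jacobsonSpace Z.hom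
  haveI : Surjective π.left := by
    refine ⟨Set.range_eq_univ.1 ?_⟩
    refine Set.eq_univ_of_univ_subset ?_
    rw [← closure_closedPoints]
    refine closure_minimal (fun p hp => ?_) π.left.isClosedMap.isClosed_range
    obtain ⟨y, rfl⟩ := exists_pnt hp
    obtain ⟨c, hc⟩ := exists_sol a m l x rfl _ hample hlL y
    obtain ⟨z, hz⟩ := (hfun c y).2 hc
    refine ⟨pnt z, ?_⟩
    show pnt (z ≫ π) = pnt y
    rw [← Category.assoc, hz, lift_snd]
  haveI : IsFinite π.left := by
    refine isFinite_of_finite_closed _ fun p hp => ?_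
    obtain ⟨y, rfl⟩ := exists_pnt hp
    obtain ⟨c₀, hc₀⟩ := exists_sol a m l x rfl _ hample hlL y
    have hclosed := hp.preimage π.left.continuous
    have hfin : (π.left ⁻¹' {pnt y} ∩ closedPoints Z.left).Finite := by
      have hKfin : Set.Finite {c : 𝟙_ (Over (Spec (CommRingCat.of k))) ⟶ A | transl l c = l} := by
        rw [← hlL]; exact finite_fixing _ hample
      refine ((hKfin.image fun d => pnt (lift (d * c₀) y : 𝟙_ (Over (Spec (CommRingCat.of k))) ⟶ A ⊗ X)).preimage
        (f := fun q => j.left q) j.left.isClosedEmbedding.injective.injOn).subset ?_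
      rintro q ⟨hq, hqc⟩
      obtain ⟨z, rfl⟩ := exists_pnt hqc
      have hy : z ≫ π = y := pnt_injective hq
      have h := hsol z
      rw [hy] at h
      refine ⟨(z ≫ cZ) * c₀⁻¹, ?_, ?_⟩
      · show transl l _ = l
        have h1 : pr l ((z ≫ cZ) * c₀⁻¹) = 0 := by rw [pr_div, ← h, ← hc₀, sub_self]
        have h2 := congrArg (fun u => ev u (lift (𝟙 A) (toUnit A))) h1
        simp only [ev_pr] at h2
        rw [transl_eq_add_th, h2]
        exact (congrArg (l + ·) (map_zero _)).trans (add_zero l)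
      · show pnt (lift ((z ≫ cZ) * c₀⁻¹ * c₀) y) = j.left (pnt z)
        rw [inv_mul_cancel_right]
        show _ = pnt (z ≫ j)
        congr 1
        rw [← hy]
        apply CartesianMonoidalCategory.hom_ext <;> simp [π, cZ]
    have hc : closure (π.left ⁻¹' {pnt y} ∩ closedPoints Z.left) = π.left ⁻¹' {pnt y} :=
      closure_inter_closedPoints hclosed
    have hcl : IsClosed (π.left ⁻¹' {pnt y} ∩ closedPoints Z.left) := by
      rw [← Set.biUnion_of_singleton (π.left ⁻¹' {pnt y} ∩ closedPoints Z.left)]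
      exact hfin.isClosed_biUnion fun q hq => hq.2
    rw [hcl.closure_eq] at hc
    rw [← hc]
    exact hfin
  -- descent to the generic point
  obtain ⟨K, _, _, e, hmono, hdom, he, hgen⟩ := exists_genericPt X
  let pk := pullback.snd π.left e.left
  haveI : IsFinite pk := MorphismProperty.pullback_snd (P := @IsFinite) _ _ inferInstance
  haveI : Surjective pk := MorphismProperty.pullback_snd (P := @Surjective) _ _ inferInstance
  haveI : Flat pk := H19Grp.GrpdImage.flat_to_field pk
  let g₀ := pullback.fst π.left e.left ≫ (cZ ^ n).left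
  have hdesc : ∀ {T : Scheme.{u}} (g₁ g₂ : T ⟶ pullback π.left e.left), g₁ ≫ pk = g₂ ≫ pk → g₁ ≫ g₀ = g₂ ≫ g₀ := by
    intro T g₁ g₂ h
    let q := (g₁ ≫ pullback.fst π.left e.left) ≫ Z.hom
    have h' : (g₁ ≫ pullback.fst π.left e.left) ≫ π.left = (g₂ ≫ pullback.fst π.left e.left) ≫ π.left := by
      rw [Category.assoc, Category.assoc, pullback.condition, reassoc_of% h]
    let z₁ : Over.mk q ⟶ Z := Over.homMk (g₁ ≫ pullback.fst π.left e.left) rfl
    let z₂ : Over.mk q ⟶ Z := Over.homMk (g₂ ≫ pullback.fst π.left e.left) (by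
      show _ = (g₁ ≫ pullback.fst π.left e.left) ≫ Z.hom
      rw [← Over.w π, ← Category.assoc, ← Category.assoc (g₁ ≫ _), h'])
    have hy : z₁ ≫ π = z₂ ≫ π := Over.OverMorphism.ext h'
    have h2 := hsol z₂
    rw [← hy] at h2
    have h3 : z₁ ≫ cZ ^ n = z₂ ≫ cZ ^ n := by
      rw [MonObj.comp_pow, MonObj.comp_pow]
      exact huniq _ _ _ (hsol z₁) h2
    have h4 := congrArg CommaMorphism.left h3
    simpa [g₀, z₁, z₂] using h4
  let a₀ : Spec (CommRingCat.of K) ⟶ A.left := EffectiveEpi.desc pk g₀ hdesc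
  have ha₀ : pk ≫ a₀ = g₀ := EffectiveEpi.fac _ _ _
  have ha₀w : a₀ ≫ A.hom = (sp k K).hom := by
    haveI : Epi pk := inferInstance
    rw [← cancel_epi pk, reassoc_of% ha₀]
    show (pullback.fst π.left e.left ≫ (cZ ^ n).left) ≫ A.hom = _
    rw [Category.assoc, Over.w (cZ ^ n), ← Over.w π, pullback.condition_assoc, Over.w e]
  -- spreading out and extending
  obtain ⟨φ, hφ⟩ : ∃ φ : X ⟶ A, (e ≫ φ).left = a₀ := by
    let ξ := genericPoint X.left
    letI : Algebra k X.left.functionField := (Spec.preimage (X.left.fromSpecStalk ξ ≫ X.hom)).hom.toAlgebra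
    let eξ : sp k X.left.functionField ⟶ X :=
      Over.homMk (X.left.fromSpecStalk ξ) (Spec.map_preimage _).symm
    obtain ⟨i, hi⟩ := hgen X.left.functionField eξ Scheme.fromSpecStalk_closedPoint
    let a₁ : sp k K ⟶ A := Over.homMk a₀ ha₀w
    obtain ⟨U, hξU, g, hg, hgw⟩ := spread_out_of_isGermInjective' X.hom A.hom (x := ξ)
      (spMap i ≫ a₁).left (by
        rw [Over.w (spMap i ≫ a₁)]
        exact Spec.map_preimage _)
    obtain ⟨ψ, hψw, hψ⟩ := Groth.Agent.S11992.result k X.left X.hom A U ⟨ξ, hξU⟩ g hgw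
    refine ⟨Over.homMk ψ hψw, ?_⟩
    have h1 : spMap i ≫ e ≫ Over.homMk ψ hψw = spMap i ≫ a₁ := by
      rw [← Category.assoc, hi]
      refine Over.OverMorphism.ext ?_
      show X.left.fromSpecStalk ξ ≫ ψ = _
      rw [hg, ← hψ, ← Category.assoc, Scheme.Opens.fromSpecStalkOfMem_ι]
    haveI : IsDominant (spMap i).left := by
      refine ⟨fun z => ?_⟩
      rw [Subsingleton.elim (α := PrimeSpectrum K) z ((spMap i).left (IsLocalRing.closedPoint _))]
      exact subset_closure ⟨_, rfl⟩
    haveI : IsReduced (sp k K).left := inferInstanceAs (IsReduced (Spec (CommRingCat.of K)))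
    exact ext_of_isDominant_of_isSeparated A.hom
      (by rw [Over.w (e ≫ Over.homMk ψ hψw)]; exact ha₀w.symm) (spMap i).left
        (congrArg CommaMorphism.left h1)
  -- the values at geometric generic points
  have hval : ∀ (Ω : Type u) [Field Ω] [IsAlgClosed Ω] [Algebra k Ω] (y : sp k Ω ⟶ X),
      y.left (IsLocalRing.closedPoint Ω) = genericPoint X.left → ∀ c, Sol a m l y c → y ≫ φ = c ^ n := by
    intro Ω _ _ _ y hy c hc
    obtain ⟨z, hz⟩ := exists_point_over π Ω y
    obtain ⟨i, hi⟩ := hgen Ω y hy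
    have h := hsol z
    rw [hz] at h
    rw [huniq y c (z ≫ cZ) hc h]
    refine Over.OverMorphism.ext ?_
    have hc' : z.left ≫ π.left = (spMap i).left ≫ e.left := by
      rw [← Over.comp_left, ← Over.comp_left, hz, hi]
    have h1 : pullback.lift z.left (spMap i).left hc' ≫ pk = (spMap i).left := pullback.lift_snd _ _ _
    rw [← MonObj.comp_pow, ← hi, Category.assoc, Over.comp_left, Over.comp_left, Over.comp_left, ← h1,
      ← Over.comp_left, hφ, Category.assoc, ha₀]
    show pullback.lift z.left _ hc' ≫ pullback.fst π.left e.left ≫ (cZ ^ n).left = _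
    rw [pullback.lift_fst_assoc]
  -- equivariance
  refine ⟨φ, n, hn, fun T g x => ?_⟩
  suffices h : a.act ≫ φ = (snd A X ≫ φ) * (fst A X) ^ n by
    rw [h, MonObj.comp_mul, lift_snd_assoc, MonObj.comp_pow, lift_fst]
  haveI : IsIntegral (A ⊗ X).left := by
    haveI : IsNoetherianRing (CommRingCat.of k) := inferInstanceAs (IsNoetherianRing k)
    haveI : IsLocallyNoetherian A.left := LocallyOfFiniteType.isLocallyNoetherian A.hom
    haveI : IsIntegral A.left := GeometricallyIntegral.isIntegral_of_subsingleton A.hom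
    exact inferInstanceAs (IsIntegral (pullback A.hom X.hom))
  obtain ⟨M₁, _, _, eT, -, hdomT, heT, -⟩ := exists_genericPt (A ⊗ X)
  let Ω₁ := AlgebraicClosure M₁
  let p := spMap (IsScalarTower.toAlgHom k M₁ Ω₁) ≫ eT
  have hp : p.left (IsLocalRing.closedPoint Ω₁) = genericPoint (A ⊗ X).left := by
    rw [Over.comp_left, Scheme.Hom.comp_apply, Subsingleton.elim (α := PrimeSpectrum M₁)
      ((spMap (IsScalarTower.toAlgHom k M₁ Ω₁)).left _) (IsLocalRing.closedPoint M₁), heT]
  haveI : Surjective (snd A X).left := by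
    haveI : Surjective A.hom := ⟨fun s => ⟨η[A].left s, by rw [← Scheme.Hom.comp_apply, Over.w η[A]]; rfl⟩⟩
    exact MorphismProperty.pullback_snd (P := @Surjective) _ _ inferInstance
  haveI : Surjective a.act.left := ⟨fun z => ⟨(lift (1 : X ⟶ A) (𝟙 X)).left z, by
    rw [← Scheme.Hom.comp_apply, ← Over.comp_left, act_one]; rfl⟩⟩
  have hx : (p ≫ snd A X).left (IsLocalRing.closedPoint Ω₁) = genericPoint X.left := by
    rw [Over.comp_left, Scheme.Hom.comp_apply, hp, genericPoint_map]
  have hax : (p ≫ a.act).left (IsLocalRing.closedPoint Ω₁) = genericPoint X.left := by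
    rw [Over.comp_left, Scheme.Hom.comp_apply, hp, genericPoint_map]
  haveI : IsDominant p.left := by
    refine ⟨fun z => ?_⟩
    refine closure_mono (t := Set.range p.left) (Set.singleton_subset_iff.2 ⟨IsLocalRing.closedPoint Ω₁, hp⟩) ?_
    rw [(genericPoint_spec (A ⊗ X).left).def]
    trivial
  refine Over.OverMorphism.ext (ext_of_isDominant_of_isSeparated A.hom
    (by rw [Over.w (a.act ≫ φ), Over.w ((snd A X ≫ φ) * (fst A X) ^ n)]) p.left ?_)
  rw [← Over.comp_left, ← Over.comp_left]
  congr 1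
  obtain ⟨z, hz⟩ := exists_point_over π Ω₁ (p ≫ snd A X)
  have h := hsol z
  rw [hz] at h
  have h2 := sol_act a m l h (p ≫ fst A X)
  rw [show lift (p ≫ fst A X) (p ≫ snd A X) = p by rw [← comp_lift, lift_fst_snd, Category.comp_id]] at h2
  rw [← Category.assoc, hval Ω₁ _ hax _ h2, MonObj.comp_mul, ← Category.assoc p (snd A X) φ, hval Ω₁ _ hx _ h,
    MonObj.comp_pow, mul_pow]

end Groth.Agent.H12Eqv
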