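import Groth.Agent.H25AbCube.Generated
import Groth.Agent.H25AbCube.Ample
import Groth.Agent.H25Rig.Rigidity
import Groth.Agent.H19Quot.AntiAffineAct
import Groth.Agent.H19Grp.Transporter
import Groth.Agent.LeadSpec.Sub

/-!
# Orbit maps of faithful actions of abelian varieties
-/

set_option autoImplicit false
set_option linter.style.haveILetI false
set_option linter.unusedSectionVars false
set_option backward.isDefEq.respectTransparency false
set_option maxHeartbeats 1000000
universe u

open CategoryTheory CategoryTheory.Limits MonoidalCategory CartesianMonoidalCategory MonObj GrpObj AlgebraicGeometry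
  TopologicalSpace Opposite
open Groth.Agent Groth.Agent.H11Ample

noncomputable section

namespace Groth.Agent.H12Eqv

open H25AbCube H25AbCube.Stab

variable {k : Type u} [Field k] {A X : Over (Spec (CommRingCat.of k))} [GrpObj A]

/-- A morphism with finite fibres over the closed points and a Jacobson source is finite. -/
theorem isFinite_of_finite_closed {X Y : Scheme.{u}} (f : X ⟶ Y) [IsProper f] [JacobsonSpace Y]
    (h : ∀ y : Y, IsClosed ({y} : Set Y) → (f.base ⁻¹' {y}).Finite) : IsFinite f := by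
  have hV : ∀ y : closedPoints Y, ∃ V : Y.Opens, y.1 ∈ V ∧ IsFinite (f ∣_ V) := fun y =>
    exists_isFinite_morphismRestrict_of_finite_preimage_singleton f y.1 (h y.1 y.2)
  choose V hyV hV using hV
  refine (IsZariskiLocalAtTarget.iff_of_iSup_eq_top (P := @IsFinite) V ?_).2 hV
  by_contra hne
  obtain ⟨y, hy, hyc⟩ : ((((iSup V : Y.Opens) : Set Y)ᶜ) ∩ closedPoints Y).Nonempty := by
    refine nonempty_inter_closedPoints ?_ (iSup V : Y.Opens).isOpen.isClosed_compl.isLocallyClosed
    rw [Set.nonempty_compl]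
    exact fun h => hne (SetLike.coe_injective (h.trans (TopologicalSpace.Opens.coe_top (α := Y)).symm))
  exact hy (TopologicalSpace.Opens.mem_iSup.2 ⟨⟨y, hyc⟩, hyV ⟨y, hyc⟩⟩)

theorem act_one (a : AlgGrp.Action A X) {T : Over (Spec (CommRingCat.of k))} (y : T ⟶ X) :
    lift (1 : T ⟶ A) y ≫ a.act = y :=
  H19Grp.act_one a y

theorem act_mul (a : AlgGrp.Action A X) {T : Over (Spec (CommRingCat.of k))} (g h : T ⟶ A) (y : T ⟶ X) :
    lift (g * h) y ≫ a.act = lift g (lift h y ≫ a.act) ≫ a.act := by
  have h1 : lift (g * h) y = lift (lift g h) y ≫ (μ[A] ▷ X) := by rw [lift_whiskerRight, Hom.mul_def]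
  rw [h1, Category.assoc, a.mul_act]
  simp

/-- The orbit map of a rational point. -/
abbrev orb (a : AlgGrp.Action A X) (x : 𝟙_ (Over (Spec (CommRingCat.of k))) ⟶ X) : A ⟶ X :=
  lift (𝟙 A) (toUnit A ≫ x) ≫ a.act

theorem comp_orb (a : AlgGrp.Action A X) (x : 𝟙_ (Over (Spec (CommRingCat.of k))) ⟶ X)
    {T : Over (Spec (CommRingCat.of k))} (b : T ⟶ A) : b ≫ orb a x = lift b (toUnit T ≫ x) ≫ a.act := by
  rw [orb, ← Category.assoc, comp_lift, Category.comp_id, ← Category.assoc, comp_toUnit]

variable [IsAlgClosed k] [IsProper A.hom] [Smooth A.hom] [GeometricallyIntegral A.hom]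
  [IsSeparated X.hom] [LocallyOfFiniteType X.hom] [IsIntegral X.left]

/-- For a faithful action of an abelian variety the rational points of each stabiliser form a finite set. -/
theorem finite_stab (a : AlgGrp.Action A X)
    (hfaith : ∀ g : 𝟙_ (Over (Spec (CommRingCat.of k))) ⟶ A, lift (toUnit X ≫ g) (𝟙 X) ≫ a.act = 𝟙 X → g = η[A])
    (x : 𝟙_ (Over (Spec (CommRingCat.of k))) ⟶ X) :
    Set.Finite {g : 𝟙_ (Over (Spec (CommRingCat.of k))) ⟶ A | lift g x ≫ a.act = x} := by
  haveI : IsClosedImmersion x.left := isClosedImmersion_of_comp_eq_id X.hom _ (Over.w x)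
  haveI : Mono x := Over.mono_of_mono_left x
  let Z := pullback (orb a x) x
  let j : Z ⟶ A := pullback.fst (orb a x) x
  have hsq := (IsPullback.of_hasPullback (orb a x) x).map (Over.forget _)
  haveI : IsClosedImmersion j.left :=
    MorphismProperty.of_isPullback (P := @IsClosedImmersion) hsq.flip ‹IsClosedImmersion x.left›
  haveI : Mono j := Over.mono_of_mono_left j
  have hfun : ∀ {T : Over (Spec (CommRingCat.of k))} (b : T ⟶ A),
      (∃ z, z ≫ j = b) ↔ lift b (toUnit T ≫ x) ≫ a.act = toUnit T ≫ x := by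
    intro T b
    refine ⟨?_, fun h => ⟨pullback.lift b (toUnit T) ((comp_orb a x b).trans h), pullback.lift_fst _ _ _⟩⟩
    rintro ⟨z, rfl⟩
    rw [← comp_orb, Category.assoc, pullback.condition, ← Category.assoc]
    exact congrArg (· ≫ x) (toUnit_unique _ _)
  obtain ⟨gZ, hj⟩ := H19Grp.exists_grpObj_of_closed (G := A) j ((hfun 1).2 (act_one a _))
    (fun T b c => (hfun _).2 (by rw [act_mul, (hfun _).1 ⟨c, rfl⟩, (hfun _).1 ⟨b, rfl⟩]))
    (fun T b => (hfun _).2 (by
      conv_lhs => rw [← (hfun _).1 ⟨b, rfl⟩, ← act_mul, inv_mul_cancel, act_one]))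
  haveI := hj
  haveI : IsProper Z.hom := by rw [← Over.w j]; infer_instance
  obtain ⟨R, gR, c, hc, hcc, hsm, hconn, hdim⟩ := LeadSpec.exists_smooth_connected_subgroup Z
  haveI := hc; haveI := hcc; haveI := hsm; haveI := hconn
  haveI : IsProper R.hom := by rw [← Over.w c]; infer_instance
  haveI : GeometricallyConnected R.hom := H19Grp.geometricallyConnected_of_connectedSpace R.hom
  haveI : GeometricallyIntegral R.hom := geometricallyIntegral_of_smooth R
  haveI : IsIso R.hom.appTop :=
    (ConcreteCategory.isIso_iff_bijective _).2 (H25Rig.bijective_appTop R.hom)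
  haveI : IsLocallyNoetherian X.left := LocallyOfFiniteType.isLocallyNoetherian X.hom
  haveI : Mono (c ≫ j) := by
    haveI : Mono c := Over.mono_of_mono_left c
    infer_instance
  have htriv : ∀ r : 𝟙_ (Over (Spec (CommRingCat.of k))) ⟶ R, r = η[R] := by
    intro r
    refine (cancel_mono (c ≫ j)).1 ((hfaith _ ?_).trans (IsMonHom.one_hom (f := c ≫ j)).symm)
    have h := H19Quot.antiAffine_act_trivial a (c ≫ j) x (fun T m => by
      rw [← Category.assoc]; exact (hfun _).1 ⟨m ≫ c, rfl⟩) (toUnit X ≫ r) (𝟙 X)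
    rwa [Category.assoc] at h
  haveI : JacobsonSpace R.left := LocallyOfFiniteType.jacobsonSpace R.hom
  haveI : Subsingleton R.left := by
    refine ⟨fun p q => ?_⟩
    have key : ∀ p : R.left, p = pnt η[R] := fun p => by
      have hsub : closedPoints R.left ⊆ {pnt η[R]} := fun q hq => by
        obtain ⟨b, rfl⟩ := exists_pnt hq
        rw [htriv b]; rfl
      have := closure_mono hsub
      rw [closure_closedPoints, (pnt_isClosed _).closure_eq] at this
      exact this (Set.mem_univ p)
    rw [key p, key q]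
  haveI : CompactSpace Z.left := QuasiCompact.compactSpace_of_compactSpace Z.hom
  haveI : IsLocallyNoetherian Z.left := LocallyOfFiniteType.isLocallyNoetherian Z.hom
  haveI : IsNoetherian Z.left := {}
  obtain ⟨hfinZ, -⟩ := H28Top.finite_discrete_of_dim_le_zero (X := Z.left)
    (by
      rw [← hdim]
      haveI : Subsingleton (IrreducibleCloseds R.left) := ⟨fun s t => IrreducibleCloseds.ext (Set.ext fun q => by
        obtain ⟨y, hy⟩ := s.isIrreducible.nonempty
        obtain ⟨z, hz⟩ := t.isIrreducible.nonempty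
        exact ⟨fun _ => Subsingleton.elim z q ▸ hz, fun _ => Subsingleton.elim y q ▸ hy⟩)⟩
      exact Order.krullDim_nonpos_of_subsingleton)
  haveI := hfinZ
  refine Set.Finite.of_finite_image (f := fun g => pnt g) ?_ fun g _ g' _ h => pnt_injective h
  refine Set.Finite.subset (Set.finite_range j.left) ?_
  rintro _ ⟨g, hg, rfl⟩
  obtain ⟨z, rfl⟩ := (hfun g).2 (by rw [toUnit_unique (toUnit _) (𝟙 _), Category.id_comp]; exact hg)
  exact ⟨_, rfl⟩

/-- Orbit maps of a faithful action of an abelian variety are finite. -/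
theorem isFinite_orb (a : AlgGrp.Action A X)
    (hfaith : ∀ g : 𝟙_ (Over (Spec (CommRingCat.of k))) ⟶ A, lift (toUnit X ≫ g) (𝟙 X) ≫ a.act = 𝟙 X → g = η[A])
    (x : 𝟙_ (Over (Spec (CommRingCat.of k))) ⟶ X) : IsFinite (orb a x).left := by
  haveI : JacobsonSpace X.left := LocallyOfFiniteType.jacobsonSpace X.hom
  haveI : JacobsonSpace A.left := LocallyOfFiniteType.jacobsonSpace A.hom
  haveI : IsProper ((orb a x).left ≫ X.hom) := by rw [Over.w (orb a x)]; infer_instance
  haveI : IsProper (orb a x).left := IsProper.of_comp (orb a x).left X.hom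
  have hu : toUnit (𝟙_ (Over (Spec (CommRingCat.of k)))) = 𝟙 _ := toUnit_unique _ _
  refine isFinite_of_finite_closed _ fun y hy => ?_
  obtain ⟨y, rfl⟩ := exists_pnt hy
  have hpts : ((orb a x).left ⁻¹' {pnt y} ∩ closedPoints A.left).Finite := by
    by_cases h : ∃ g₀ : 𝟙_ (Over (Spec (CommRingCat.of k))) ⟶ A, lift g₀ x ≫ a.act = y
    · obtain ⟨g₀, hg₀⟩ := h
      refine Set.Finite.subset ((finite_stab a hfaith x).image fun g => pnt (g₀ * g)) ?_
      rintro p ⟨hp, hpc⟩
      obtain ⟨g, rfl⟩ := exists_pnt hpc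
      have hg : lift g x ≫ a.act = y := by
        have : g ≫ orb a x = y := pnt_injective hp
        rwa [comp_orb, hu, Category.id_comp] at this
      refine ⟨g₀⁻¹ * g, ?_, congrArg pnt (mul_inv_cancel_left g₀ g)⟩
      show lift (g₀⁻¹ * g) x ≫ a.act = x
      rw [act_mul, hg, ← hg₀, ← act_mul, inv_mul_cancel, act_one]
    · refine Set.Finite.subset Set.finite_empty ?_
      rintro p ⟨hp, hpc⟩
      obtain ⟨g, rfl⟩ := exists_pnt hpc
      refine h ⟨g, ?_⟩
      have : g ≫ orb a x = y := pnt_injective hp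
      rwa [comp_orb, hu, Category.id_comp] at this
  have hclosed := hy.preimage (orb a x).left.continuous
  have hc : closure ((orb a x).left ⁻¹' {pnt y} ∩ closedPoints A.left) = (orb a x).left ⁻¹' {pnt y} :=
    closure_inter_closedPoints hclosed
  have hcl : IsClosed ((orb a x).left ⁻¹' {pnt y} ∩ closedPoints A.left) := by
    rw [← Set.biUnion_of_singleton ((orb a x).left ⁻¹' {pnt y} ∩ closedPoints A.left)]
    exact hpts.isClosed_biUnion fun p hp => hp.2
  rw [hcl.closure_eq] at hc
  rw [← hc]
  exact hpts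

/-- Some invertible module pulls back to an ample module along an orbit map. -/
theorem exists_ample_orb [QuasiCompact X.hom] [Smooth X.hom] (a : AlgGrp.Action A X)
    (hfaith : ∀ g : 𝟙_ (Over (Spec (CommRingCat.of k))) ⟶ A, lift (toUnit X ≫ g) (𝟙 X) ≫ a.act = 𝟙 X → g = η[A])
    (x : 𝟙_ (Over (Spec (CommRingCat.of k))) ⟶ X) :
    ∃ M : X.left.Modules, PicF.IsInvertible M ∧ CohB1.IsAmple ((Scheme.Modules.pullback (orb a x).left).obj M) := by
  haveI := isFinite_orb a hfaith x
  haveI : IsLocallyNoetherian X.left := LocallyOfFiniteType.isLocallyNoetherian X.hom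
  haveI : CompactSpace X.left := QuasiCompact.compactSpace_of_compactSpace X.hom
  haveI : IsNoetherian X.left := {}
  haveI : X.left.IsSeparated := ⟨by rw [← terminal.comp_from X.hom]; infer_instance⟩
  obtain ⟨U, hU, hxU, -⟩ := exists_isAffineOpen_mem_and_subset (U := (⊤ : X.left.Opens)) (x := pnt x) trivial
  obtain ⟨D, hD, hsupp⟩ := Groth.Agent.S1572.result X.left U hU (U.isOpen.dense ⟨_, hxU⟩) fun z _ => by
    haveI := H19Grp.isRegularLocalRing_stalk_of_smooth X.hom z
    haveI := H4Depth.isDomain_of_isRegularLocalRing (X.left.presheaf.stalk z)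
    exact ⟨inferInstance, H28Alg.ufd_of_regular _⟩
  obtain ⟨M, t, hM, ht⟩ := H8Props.DivisorSection.exists_invertible_section hD
  have e : gen M t = U := by
    rw [ht]
    ext z
    show z ∈ (D.support : Set X.left)ᶜ ↔ _
    rw [hsupp, compl_compl]
  refine ⟨M, hM, H25AbCube.isAmple_of_affine_gen _ (isInvertible_pullback _ hM)
    ((1 : Γ(A.left, ⊤)) • pullTop (orb a x).left t) ?_ ?_⟩
  · rw [gen_smul_pullSect (orb a x).left hM t isUnit_one, e]
    exact hU.preimage (orb a x).left
  · rw [gen_smul_pullSect (orb a x).left hM t isUnit_one, e]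
    refine ⟨pnt (1 : 𝟙_ (Over (Spec (CommRingCat.of k))) ⟶ A), ?_⟩
    show pnt ((1 : 𝟙_ (Over (Spec (CommRingCat.of k))) ⟶ A) ≫ orb a x) ∈ U
    rw [comp_orb, toUnit_unique (toUnit _) (𝟙 _), Category.id_comp, act_one]
    exact hxU

end Groth.Agent.H12Eqv
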