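import Groth.Agent.H12Pic.SeesawScheme
import Groth.Agent.H12Pic.IntegralFibres
import Groth.Agent.H25AbCube.KFinite
import Groth.Agent.H12Pic.FibreConst

/-!
# The zero locus of a rigidified family of invertible classes on an abelian variety
-/

set_option autoImplicit false
set_option linter.style.haveILetI false
set_option linter.unusedSectionVars false
set_option backward.isDefEq.respectTransparency false
universe u

open CategoryTheory CategoryTheory.Limits MonoidalCategory CartesianMonoidalCategory MonObj GrpObj AlgebraicGeometry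
  TopologicalSpace
open Groth.Agent Groth.Agent.H25AbCube

noncomputable section

namespace Groth.Agent.H12Eqv

variable {k : Type u} [Field k] {A : Over (Spec (CommRingCat.of k))} [GrpObj A] [IsProper A.hom]
  [GeometricallyIntegral A.hom]

theorem isPullback_whisker {W T : Over (Spec (CommRingCat.of k))} (c : T ⟶ W) :
    IsPullback (lift (fst A T) (snd A T ≫ c)).left (snd A T).left (snd A W).left c.left := by
  suffices h : IsPullback (lift (fst A T) (snd A T ≫ c)) (snd A T) (snd A W) c from h.map (Over.forget _)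
  refine ⟨⟨by simp⟩, ⟨PullbackCone.IsLimit.mk _ (fun s => lift (s.fst ≫ fst A W) s.snd) (fun s => ?_) (fun s => ?_)
    (fun s m hm hm' => ?_)⟩⟩
  · apply CartesianMonoidalCategory.hom_ext
    · simp
    · simp [s.condition]
  · simp
  · apply CartesianMonoidalCategory.hom_ext
    · simp [← hm]
    · simp [← hm']

/-- A rigidified family of classes vanishes on a closed subscheme of the parameter space. -/
theorem exists_zero_locus {W : Over (Spec (CommRingCat.of k))} (w : PC (A ⊗ W).left)
    (hw : ev w (lift (1 : W ⟶ A) (𝟙 W)) = 0) :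
    ∃ (Z : Over (Spec (CommRingCat.of k))) (j : Z ⟶ W), IsClosedImmersion j.left ∧
      ∀ (T : Over (Spec (CommRingCat.of k))) (c : T ⟶ W),
        (∃ z : T ⟶ Z, z ≫ j = c) ↔ ev w (lift (fst A T) (snd A T ≫ c)) = 0 := by
  obtain ⟨Q, hQ, hU⟩ := exists_rep w
  let f := (snd A W).left
  haveI : IsProper f := MorphismProperty.pullback_snd (P := @IsProper) _ _ inferInstance
  haveI : Flat f := MorphismProperty.pullback_snd (P := @Flat) _ _ inferInstance
  haveI : LocallyOfFinitePresentation A.hom :=
    LocallyOfFinitePresentation.iff_locallyOfFiniteType.2 inferInstance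
  haveI : LocallyOfFinitePresentation f :=
    MorphismProperty.pullback_snd (P := @LocallyOfFinitePresentation) _ _ inferInstance
  haveI : GeometricallyIntegral f := MorphismProperty.pullback_snd (P := @GeometricallyIntegral) _ _ inferInstance
  have hint : ∀ s, IsIntegral (f.fiber s) := fun s => inferInstance
  have hK : ∀ s, IsIso (f.fiberToSpecResidueField s).appTop := fun s =>
    H12Pic.isIso_appTop_fiber_of_geomIntegral f s
  obtain ⟨Z, ιZ, hι, hZ⟩ := H12Pic.exists_seesaw_subscheme f hint hK hQ
  haveI := hι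
  let ZO : Over (Spec (CommRingCat.of k)) := Over.mk (ιZ ≫ W.hom)
  let j : ZO ⟶ W := Over.homMk ιZ rfl
  refine ⟨ZO, j, hι, fun T c => ?_⟩
  let s : A ⊗ T ⟶ A ⊗ W := lift (fst A T) (snd A T ≫ c)
  let P := (isPullback_whisker (A := A) c).isoPullback
  have hP1 : P.hom ≫ pullback.fst f c.left = s.left := IsPullback.isoPullback_hom_fst _
  have hP2 : P.hom ≫ pullback.snd f c.left = (snd A T).left := IsPullback.isoPullback_hom_snd _
  have hzu : (∃ z : T ⟶ ZO, z ≫ j = c) ↔ ∃ u' : T.left ⟶ Z, u' ≫ ιZ = c.left :=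
    ⟨fun ⟨z, hz⟩ => ⟨z.left, congrArg CommaMorphism.left hz⟩, fun ⟨u', hu'⟩ =>
      ⟨Over.homMk u' (by show u' ≫ ιZ ≫ W.hom = _; rw [reassoc_of% hu', Over.w c]), Over.OverMorphism.ext hu'⟩⟩
  rw [hzu, hZ T.left c.left]
  constructor
  · rintro ⟨N, hN, ⟨φ⟩⟩
    have h := (pc_eq_iff (H11Ample.isInvertible_pullback _ hQ) (H11Ample.isInvertible_pullback _ hN)).2 ⟨φ⟩
    rw [pullP_pc _ Q hQ, pullP_pc _ N hN, hU] at h
    have h2 := congrArg (pullP P.hom) h
    rw [pullP_pullP, pullP_pullP, hP1, hP2] at h2
    change ev w s = ev (pc N hN) (snd A T) at h2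
    have h3 := congrArg (fun v => ev v (lift (1 : T ⟶ A) (𝟙 T))) h2
    simp only [ev_comp] at h3
    rw [lift_snd, show lift (1 : T ⟶ A) (𝟙 T) ≫ s = c ≫ lift (1 : W ⟶ A) (𝟙 W) by
        apply CartesianMonoidalCategory.hom_ext <;> simp [s], ← ev_comp, hw] at h3
    have h4 : pc N hN = 0 := (pullP_id _).symm.trans (h3.symm.trans (map_zero _))
    rw [h2, h4]
    exact map_zero _
  · intro h
    refine ⟨Coh.structureModule T.left, H11Ample.isInvertible_structureModule, ?_⟩
    refine (pc_eq_iff (H11Ample.isInvertible_pullback _ hQ)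
      (H11Ample.isInvertible_pullback _ H11Ample.isInvertible_structureModule)).1 ?_
    rw [pullP_pc _ Q hQ, pullP_pc _ _ H11Ample.isInvertible_structureModule, hU, pc_one, map_zero]
    have h2 : pullP P.inv (pullP s.left w) = pullP P.inv 0 := congrArg (pullP P.inv) h
    rw [map_zero, pullP_pullP, ← hP1, Iso.inv_hom_id_assoc] at h2
    exact h2

end Groth.Agent.H12Eqv
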