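import Groth.Agent.H12Eqv.Orbit
import Groth.Agent.H12Eqv.ZeroLocus
import Groth.Agent.H25AbCube.PoincareSplit
import Groth.Agent.H25AbCube.AlgEquiv
import Groth.Agent.H25Pic0.Apps
import Groth.Agent.H19Grp.CommOrder
import Groth.Agent.H19Grp.GrpdImage

/-!
# The correspondence of a line bundle on a space with an action of an abelian variety
-/

set_option autoImplicit false
set_option linter.style.haveILetI false
set_option linter.unusedSectionVars false
set_option backward.isDefEq.respectTransparency false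
set_option synthInstance.maxHeartbeats 100000
set_option maxHeartbeats 1000000
universe u

open CategoryTheory CategoryTheory.Limits MonoidalCategory CartesianMonoidalCategory MonObj GrpObj AlgebraicGeometry
  TopologicalSpace
open Groth.Agent Groth.Agent.H25AbCube

noncomputable section

namespace Groth.Agent.H12Eqv

variable {k : Type u} [Field k] {A X : Over (Spec (CommRingCat.of k))} [GrpObj A] [IsProper A.hom]
  [GeometricallyIntegral A.hom] [IsCommMonObj A] (a : AlgGrp.Action A X) (m : PC X.left) (l : PC A.left)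

/-- The difference of a class along the orbit of a point and a fixed class. -/
def tw {T : Over (Spec (CommRingCat.of k))} (y : T ⟶ X) : PC (A ⊗ T).left :=
  ev m (lift (fst A T) (snd A T ≫ y) ≫ a.act) - ev l (fst A T) - ev m (snd A T ≫ y)

/-- The class of the translation by a point. -/
def pr {T : Over (Spec (CommRingCat.of k))} (c : T ⟶ A) : PC (A ⊗ T).left := th l (fst A T) (snd A T ≫ c)

theorem ev_sub' {S T : Over (Spec (CommRingCat.of k))} (u v : PC T.left) (g : S ⟶ T) :
    ev (u - v) g = ev u g - ev v g := map_sub _ _ _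

theorem th_one_left (l : PC A.left) {T : Over (Spec (CommRingCat.of k))} (q : T ⟶ A) : th l 1 q = 0 := by
  rw [th_comm, th_one_right]

theorem ev_tw {T S : Over (Spec (CommRingCat.of k))} (p : S ⟶ A) (q : S ⟶ T) (y : T ⟶ X) :
    ev (tw a m l y) (lift p q) = ev m (lift p (q ≫ y) ≫ a.act) - ev l p - ev m (q ≫ y) := by
  rw [tw, ev_sub', ev_sub', ev_comp, ev_comp, ev_comp, ← Category.assoc (lift p q), comp_lift, lift_fst,
    lift_snd_assoc]

theorem ev_pr {T S : Over (Spec (CommRingCat.of k))} (p : S ⟶ A) (q : S ⟶ T) (c : T ⟶ A) :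
    ev (pr l c) (lift p q) = th l p (q ≫ c) := by
  rw [pr, ev_th, lift_fst, lift_snd_assoc]

theorem tw_nat {T S : Over (Spec (CommRingCat.of k))} (g : S ⟶ T) (y : T ⟶ X) :
    ev (tw a m l y) (lift (fst A S) (snd A S ≫ g)) = tw a m l (g ≫ y) := by
  rw [ev_tw, Category.assoc]; rfl

theorem pr_nat {T S : Over (Spec (CommRingCat.of k))} (g : S ⟶ T) (c : T ⟶ A) :
    ev (pr l c) (lift (fst A S) (snd A S ≫ g)) = pr l (g ≫ c) := by
  rw [ev_pr, Category.assoc]; rfl

theorem pr_div {T : Over (Spec (CommRingCat.of k))} (c c' : T ⟶ A) :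
    pr l (c * c'⁻¹) = pr l c - pr l c' := by
  rw [pr, MonObj.comp_mul, GrpObj.comp_inv, th_mul_right, th_inv_right, ← sub_eq_add_neg]; rfl

/-- `c` is a solution at `y`. -/
def Sol {T : Over (Spec (CommRingCat.of k))} (y : T ⟶ X) (c : T ⟶ A) : Prop := tw a m l y = pr l c

theorem sol_nat {T S : Over (Spec (CommRingCat.of k))} (g : S ⟶ T) {y : T ⟶ X} {c : T ⟶ A}
    (h : Sol a m l y c) : Sol a m l (g ≫ y) (g ≫ c) := by
  show _ = _
  rw [← tw_nat, ← pr_nat, h]

/-- Solutions are equivariant. -/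
theorem sol_act {T : Over (Spec (CommRingCat.of k))} {y : T ⟶ X} {c : T ⟶ A} (h : Sol a m l y c) (b : T ⟶ A) :
    Sol a m l (lift b y ≫ a.act) (c * b) := by
  have h1 := congrArg (fun u => ev u (lift (fst A T * (snd A T ≫ b)) (snd A T))) h
  have h2 := congrArg (fun u => ev u (lift (snd A T ≫ b) (snd A T))) h
  simp only [ev_tw, ev_pr] at h1 h2
  show _ = _
  rw [tw, pr, MonObj.comp_mul, th_mul_right]
  rw [th_mul_left] at h1
  have e : snd A T ≫ lift b y ≫ a.act = lift (snd A T ≫ b) (snd A T ≫ y) ≫ a.act := by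
    rw [← Category.assoc, comp_lift]
  rw [e, ← act_mul]
  have h3 : th l (fst A T) (snd A T ≫ b) =
      ev l (fst A T * (snd A T ≫ b)) - ev l (fst A T) - ev l (snd A T ≫ b) := rfl
  rw [h3]
  linear_combination (norm := abel) h1 - h2

/-- The translations fixing the class scheme-theoretically are killed by a positive integer. -/
theorem exists_kill [IsAlgClosed k] (L : A.left.Modules) (hL : CohB1.IsAmple L) :
    ∃ n : ℕ, 0 < n ∧ ∀ (T : Over (Spec (CommRingCat.of k))) (c : T ⟶ A), pr (pc L hL.1) c = 0 → c ^ n = 1 := by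
  obtain ⟨K, gK, j, hj, hjc, hK⟩ := exists_orth (pc L hL.1) (𝟙 A)
  haveI := hj
  haveI := hjc
  haveI : Mono j := Over.mono_of_mono_left j
  have hpair : ∀ {T : Over (Spec (CommRingCat.of k))} (c : T ⟶ A),
      pairing (pc L hL.1) (𝟙 A) c = pr (pc L hL.1) c := fun c => by
    rw [pairing, Category.comp_id]; rfl
  obtain ⟨N, hN⟩ := (hK K j).1 ⟨𝟙 K, Category.id_comp j⟩
  rw [hpair] at hN
  have hN0 := congrArg (fun u => ev u (lift (1 : K ⟶ A) (𝟙 K))) hN
  simp only [ev_pr, Category.id_comp, ev_comp, lift_snd] at hN0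
  rw [th_one_left] at hN0
  have h0 : ev (theta (pc L hL.1)) (lift (fst A K) (snd A K ≫ j)) = 0 := by
    rw [th_eq]
    show pr (pc L hL.1) j = 0
    rw [hN, show N = 0 from (pullP_id N).symm.trans hN0.symm]
    exact map_zero _
  haveI : IsFinite K.hom := isFinite_of_theta_eq_zero L hL j h0
  haveI : IsCommMonObj K := ⟨by
    rw [← cancel_mono j, Category.assoc, IsMonHom.mul_hom (f := j), ← Category.assoc, ← BraidedCategory.braiding_naturality,
      Category.assoc, IsCommMonObj.mul_comm A]⟩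
  haveI : Flat K.hom := H19Grp.GrpdImage.flat_to_field K.hom
  haveI : LocallyOfFinitePresentation K.hom :=
    LocallyOfFinitePresentation.iff_locallyOfFiniteType.2 inferInstance
  let s₀ : Spec (CommRingCat.of k) := IsLocalRing.closedPoint k
  have hkill := H19Grp.CommOrder.id_pow_eq_one K (Scheme.Hom.finrank K.hom s₀) fun s => by
    rw [Subsingleton.elim (α := PrimeSpectrum k) s s₀]
  have hpos : 0 < Scheme.Hom.finrank K.hom s₀ := by
    have : Surjective K.hom := ⟨fun s => ⟨η[K].left s, by rw [← Scheme.Hom.comp_apply, Over.w η[K]]; rfl⟩⟩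
    exact ((Scheme.Hom.one_le_finrank_iff_surjective K.hom).2 this) s₀
  refine ⟨_, hpos, fun T c hc => ?_⟩
  obtain ⟨z, rfl⟩ := (hK T c).2 ⟨0, by rw [hpair, hc]; exact (map_zero _).symm⟩
  rw [← MonObj.pow_comp, show z ^ _ = z ≫ (𝟙 K) ^ _ by rw [MonObj.comp_pow, Category.comp_id], hkill,
    MonObj.comp_one, MonObj.one_comp]

variable [IsAlgClosed k]

theorem atPt_injective {u v : PC (A ⊗ 𝟙_ (Over (Spec (CommRingCat.of k)))).left}
    (h : ev u (lift (𝟙 A) (toUnit A)) = ev v (lift (𝟙 A) (toUnit A))) : u = v := by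
  have h' := congrArg (fun z => ev z (fst A (𝟙_ _))) h
  simp only [ev_comp] at h'
  rw [show fst A (𝟙_ (Over (Spec (CommRingCat.of k)))) ≫ lift (𝟙 A) (toUnit A) = 𝟙 _ by
    apply CartesianMonoidalCategory.hom_ext
    · simp
    · exact toUnit_unique _ _] at h'
  exact (pullP_id u).symm.trans (h'.trans (pullP_id v))

/-- Solutions exist at rational points. -/
theorem exists_sol [Smooth A.hom] [LocallyOfFiniteType X.hom] [GeometricallyIntegral X.hom]
    (x : 𝟙_ (Over (Spec (CommRingCat.of k))) ⟶ X) (hl : l = ev m (orb a x)) (L : A.left.Modules)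
    (hL : CohB1.IsAmple L) (hlL : pc L hL.1 = l) (y : 𝟙_ (Over (Spec (CommRingCat.of k))) ⟶ X) :
    ∃ c, Sol a m l y c := by
  let v := ev m (orb a y) - l
  have hB : ∀ (z : 𝟙_ (Over (Spec (CommRingCat.of k))) ⟶ X) (f : A ⟶ A),
      ev (ev m a.act) (lift f (toUnit A ≫ z)) = ev (ev m (orb a z)) f := fun z f => by
    rw [ev_comp, ev_comp, comp_orb]
  have hv : ∀ c, transl v c = v := fun c => by
    have h := transl_sub_const A X (ev m a.act) c y x
    rw [hB, hB, hB, hB, show ev (ev m (orb a y)) (𝟙 A) = _ from pullP_id _,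
      show ev (ev m (orb a x)) (𝟙 A) = _ from pullP_id _, ← hl] at h
    show ev (ev m (orb a y) - l) _ = _
    rw [ev_sub']
    show _ = ev m (orb a y) - l
    linear_combination (norm := abel) h
  obtain ⟨c, hc⟩ := H25Pic0.exists_of_ample L hL v (ev_mul_of_invariant v hv _ _)
  rw [hlL] at hc
  refine ⟨c, atPt_injective ?_⟩
  rw [ev_tw, ev_pr, ← comp_orb, Category.id_comp, show ev l (𝟙 A) = l from pullP_id l, ev_const, sub_zero]
  show v = _
  rw [← hc, transl_eq_add_th, add_sub_cancel_left]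

end Groth.Agent.H12Eqv
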